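import Groth.Agent.Lib.FlatDescent8.Basic

/-!
# Flatness at the points over a point, read on a flat extension of a model
-/

set_option autoImplicit false
set_option linter.style.haveILetI false
universe u

open TensorProduct FlatCA

namespace GrothLib.FlatteningHens1

attribute [local instance] Algebra.TensorProduct.rightAlgebra

/-- A base change of a flat extension is a flat extension, and primes lift along it. -/
theorem flat_pushout_and_primes {S S2 C T : Type u} [CommRing S] [CommRing S2] [CommRing C] [CommRing T]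
    [Algebra S S2] [Algebra S C] [Algebra S T] [Algebra S2 T] [Algebra C T] [IsScalarTower S S2 T]
    [IsScalarTower S C T] [Algebra.IsPushout S S2 C T] [Module.Flat S S2] :
    Module.Flat C T ∧ ∀ (q2 : Ideal S2) [q2.IsPrime] (Q : Ideal C) [Q.IsPrime],
      q2.comap (algebraMap S S2) = Q.comap (algebraMap S C) →
        ∃ Q' : Ideal T, Q'.IsPrime ∧ Q'.comap (algebraMap S2 T) = q2 ∧ Q'.comap (algebraMap C T) = Q :=
  ⟨Module.Flat.isBaseChange S C S2 T (Algebra.IsPushout.symm (R := S) (S := S2) (R' := C) (S' := T) inferInstance).out,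
    fun q2 _ Q _ h => GrothLib.FlatDescent8.exists_prime_over q2 Q h⟩

set_option maxHeartbeats 1600000 in
/-- Flatness at the points over `q` and the closed point, read on a flat extension `S2` of `S`. -/
theorem forall_flatAt_iff {A A' S S2 T : Type u} [CommRing A] [CommRing A'] [Algebra A A'] [IsLocalRing A']
    [CommRing S] [Algebra A S] [CommRing S2] [Algebra A S2] [Algebra S S2] [IsScalarTower A S S2] [Module.Flat S S2]
    [CommRing T] [Algebra A T] [Algebra A' T] [Algebra S2 T] [Algebra S T] [IsScalarTower S S2 T] [IsScalarTower A A' T]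
    [IsScalarTower A S2 T] [Algebra.IsPushout A S2 A' T]
    (N : Type u) [AddCommGroup N] [Module S N] {NT : Type u} [AddCommGroup NT] [Module T NT] [Module A' NT]
    [IsScalarTower A' T NT] [Module S NT] [IsScalarTower S T NT] (jT : N →ₗ[S] NT) (hjT : IsBaseChange T jT)
    (q : Ideal S) [q.IsPrime] (P : Ideal S2 → Prop) (hP : ∀ q2, P q2 → q2.comap (algebraMap S S2) = q)
    (hex : ∃ q2 : Ideal S2, q2.IsPrime ∧ P q2) :
    (∀ (Q : Ideal (A' ⊗[A] S)) [Q.IsPrime], Q.comap (algebraMap S (A' ⊗[A] S)) = q →
      Q.comap (algebraMap A' (A' ⊗[A] S)) = IsLocalRing.maximalIdeal A' →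
      FlatAt A' Q ((A' ⊗[A] S) ⊗[S] N)) ↔
    ∀ (Q' : Ideal T) [Q'.IsPrime], P (Q'.comap (algebraMap S2 T)) →
      Q'.comap (algebraMap A' T) = IsLocalRing.maximalIdeal A' → FlatAt A' Q' NT := by
  let C := A' ⊗[A] S
  let NC := C ⊗[S] N
  haveI : IsScalarTower A S T := IsScalarTower.of_algebraMap_eq fun a => by
    rw [IsScalarTower.algebraMap_apply S S2 T, ← IsScalarTower.algebraMap_apply A S S2,
      ← IsScalarTower.algebraMap_apply A S2 T]
  let ψ : C →ₐ[A'] T := Algebra.TensorProduct.lift (Algebra.ofId A' T) (IsScalarTower.toAlgHom A S T)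
    fun _ _ => Commute.all _ _
  letI : Algebra C T := ψ.toRingHom.toAlgebra
  haveI : IsScalarTower A' C T := IsScalarTower.of_algebraMap_eq fun a => (ψ.commutes a).symm
  haveI : IsScalarTower S C T := IsScalarTower.of_algebraMap_eq fun s => by
    show algebraMap S T s = Algebra.TensorProduct.lift (Algebra.ofId A' T) (IsScalarTower.toAlgHom A S T)
      (fun _ _ => Commute.all _ _) ((1 : A') ⊗ₜ s)
    rw [Algebra.TensorProduct.lift_tmul, map_one, one_mul, IsScalarTower.coe_toAlgHom']
  haveI : IsScalarTower A C T := IsScalarTower.of_algebraMap_eq fun a => by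
    rw [IsScalarTower.algebraMap_apply A A' T, IsScalarTower.algebraMap_apply A A' C]
    exact (ψ.commutes _).symm
  haveI : Algebra.IsPushout A S A' C := Algebra.IsPushout.symm inferInstance
  haveI hpo : Algebra.IsPushout S S2 C T :=
    (Algebra.IsPushout.comp_iff (R := A) (S := S) (R' := A') (S' := C)).1 inferInstance
  obtain ⟨hflat, hprimes⟩ := flat_pushout_and_primes (S := S) (S2 := S2) (C := C) (T := T)
  haveI := hflat
  letI : Module C NT := Module.compHom NT (algebraMap C T)
  haveI : IsScalarTower C T NT := IsScalarTower.of_algebraMap_smul fun _ _ => rfl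
  haveI : IsScalarTower S C NT := IsScalarTower.of_algebraMap_smul fun s x => by
    show algebraMap C T (algebraMap S C s) • x = s • x
    rw [← IsScalarTower.algebraMap_apply, algebraMap_smul]
  have hι : IsBaseChange C (TensorProduct.mk S C N 1) := TensorProduct.isBaseChange S N C
  let h : NC →ₗ[C] NT := hι.lift jT
  have hh : IsBaseChange T h := hι.of_comp (h := h) (by
    rw [show (h : NC →ₗ[S] NT) ∘ₗ TensorProduct.mk S C N 1 = jT from hι.lift_comp jT]
    exact hjT)
  have key : ∀ (Q' : Ideal T) [Q'.IsPrime],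
      FlatAt A' (Q'.comap (algebraMap C T)) NC ↔ FlatAt A' Q' NT := fun Q' _ => by
    haveI : Module.Flat T (Localization.AtPrime Q') := IsLocalization.flat _ Q'.primeCompl
    haveI : Module.Flat C (Localization.AtPrime Q') := Module.Flat.trans C T _
    exact GrothLib.FlatDescent8.flatAt_iff_of_flat_localization h hh Q'
  constructor
  · intro H Q' _ hQ hm
    refine (key Q').1 (H _ ?_ ?_)
    · rw [Ideal.comap_comap, ← IsScalarTower.algebraMap_eq S C T, IsScalarTower.algebraMap_eq S S2 T,
        ← Ideal.comap_comap]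
      exact hP _ hQ
    · rw [Ideal.comap_comap, ← IsScalarTower.algebraMap_eq A' C T]
      exact hm
  · intro H Q _ hQ hm
    obtain ⟨q2, hq2, hPq⟩ := hex
    haveI := hq2
    obtain ⟨Q', hQ', h1, h2⟩ := hprimes q2 Q ((hP q2 hPq).trans hQ.symm)
    haveI := hQ'
    subst h2
    refine (key Q').2 (H Q' (h1 ▸ hPq) ?_)
    rw [IsScalarTower.algebraMap_eq A' C T, ← Ideal.comap_comap]
    exact hm

end GrothLib.FlatteningHens1
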