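import Groth.Agent.Lib.FlatteningHens1.Dev
import Groth.Agent.Lib.FlatteningHens1.Transport
import Groth.Agent.Lib.RG6.Dev.Models
import Groth.Agent.Lib.Hensel.Lift

/-!
# The flattening ideal over a henselian local ring
-/

set_option autoImplicit false
set_option linter.style.haveILetI false
universe u

open TensorProduct FlatCA IsLocalRing

namespace GrothLib.FlatteningHens1

attribute [local instance] Algebra.TensorProduct.rightAlgebra

/-- An étale neighbourhood of the closed point of a henselian local ring has a section. -/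
theorem exists_section {A R' : Type u} [CommRing A] [HenselianLocalRing A] [CommRing R'] [Algebra A R']
    (p' : Ideal R') [p'.IsPrime] (h : IsEtaleNhd A R' (maximalIdeal A) p') :
    ∃ σ : R' →ₐ[A] A, (maximalIdeal A).comap σ.toRingHom = p' := by
  obtain ⟨het, hover, hbij⟩ := h
  haveI := het
  let m := maximalIdeal A
  haveI : HenselianRing A m := inferInstance
  let e := AlgEquiv.ofBijective (Ideal.ResidueField.mapₐ m p' (Algebra.ofId A R') hover.over) hbij
  let e2 : (A ⧸ m) ≃ₐ[A] m.ResidueField := AlgEquiv.ofBijective (IsScalarTower.toAlgHom A (A ⧸ m) m.ResidueField)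
    (Ideal.bijective_algebraMap_quotient_residueField m)
  let σ₀ : R' →ₐ[A] A ⧸ m :=
    e2.symm.toAlgHom.comp (e.symm.toAlgHom.comp (IsScalarTower.toAlgHom A R' p'.ResidueField))
  obtain ⟨σ, hσ⟩ := GrothLib.Hensel.EtaleLift.of_henselianRing m R' σ₀
  refine ⟨σ, Ideal.ext fun r => ?_⟩
  have h1 : Ideal.Quotient.mk m (σ r) = σ₀ r := AlgHom.congr_fun hσ r
  rw [Ideal.mem_comap, ← Ideal.algebraMap_residueField_eq_zero (I := p')]
  show σ r ∈ m ↔ _
  rw [← Ideal.Quotient.eq_zero_iff_mem, h1]
  show e2.symm (e.symm (algebraMap R' p'.ResidueField r)) = 0 ↔ _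
  rw [map_eq_zero_iff _ e2.symm.injective, map_eq_zero_iff _ e.symm.injective]

set_option maxHeartbeats 3200000 in
/-- The flattening ideal of a finite type model at a point over the closed point. -/
theorem exists_ideal_model {A S : Type u} [CommRing A] [HenselianLocalRing A] [CommRing S] [Algebra A S]
    [Algebra.FiniteType A S] (N : Type u) [AddCommGroup N] [Module S N] [Module A N] [IsScalarTower A S N]
    [Module.Finite S N] (q : Ideal S) [q.IsPrime] [q.LiesOver (maximalIdeal A)] :
    ∃ I : Ideal A, ∀ (A' : Type u) [CommRing A'] [IsLocalRing A'] [Algebra A A'] [IsLocalHom (algebraMap A A')],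
      ((∀ (Q : Ideal (A' ⊗[A] S)) [Q.IsPrime], Q.comap (algebraMap S (A' ⊗[A] S)) = q →
        Q.comap (algebraMap A' (A' ⊗[A] S)) = maximalIdeal A' → FlatAt A' Q ((A' ⊗[A] S) ⊗[S] N)) ↔
        I.map (algebraMap A A') = ⊥) := by
  by_cases hann : Module.annihilator S N ≤ q
  swap
  · obtain ⟨s, hs, hsq⟩ := SetLike.not_le_iff_exists.1 hann
    refine ⟨⊥, fun A' _ _ _ _ => iff_of_true (fun Q _ hQ _ => ?_) Ideal.map_bot⟩
    haveI : Subsingleton (LocalizedModule Q.primeCompl ((A' ⊗[A] S) ⊗[S] N)) := by
      refine LocalizedModule.subsingleton_iff.2 fun z => ⟨algebraMap S (A' ⊗[A] S) s, fun hm => hsq (hQ ▸ hm), ?_⟩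
      rw [algebraMap_smul]
      induction z using TensorProduct.induction_on with
      | zero => rw [smul_zero]
      | add a b ha hb => rw [smul_add, ha, hb, add_zero]
      | tmul a n => rw [← TensorProduct.tmul_smul, Module.mem_annihilator.1 hs n, TensorProduct.tmul_zero]
    exact inferInstanceAs (Module.Flat A' (LocalizedModule Q.primeCompl ((A' ⊗[A] S) ⊗[S] N)))
  obtain ⟨R', S', _, _, _, _, _, _, _, _, p', q', _, _, hR, hS, hqp, hdev⟩ :=
    GrothLib.RG6.Dev.exists_completeDevissage_etale N (maximalIdeal A) q hann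
  haveI := hqp
  haveI : Algebra.Etale A R' := hR.1
  haveI : Algebra.Etale S S' := hS.1
  haveI : Algebra.FiniteType A S' := Algebra.FiniteType.trans (S := S) inferInstance inferInstance
  haveI : Algebra.FiniteType R' S' := Algebra.FiniteType.of_restrictScalars_finiteType A R' S'
  let N' := S' ⊗[S] N
  haveI : Module.Finite S' N' := inferInstance
  haveI : IsScalarTower R' S' N' := inferInstance
  obtain ⟨D, ⟨𝒜⟩⟩ := hdev N' (TensorProduct.mk S S' N 1) (TensorProduct.isBaseChange S N S')
  obtain ⟨hqo, -⟩ := hS.2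
  obtain ⟨σ, hσ⟩ := exists_section p' hR
  obtain ⟨I₀, hI₀⟩ := exists_ideal_of_devissage D 𝒜
  refine ⟨I₀.map σ.toRingHom, fun A' _ _ _ _ => ?_⟩
  letI : Algebra R' A := σ.toRingHom.toAlgebra
  haveI : IsScalarTower A R' A := IsScalarTower.of_algebraMap_eq fun a => (σ.commutes a).symm
  letI : Algebra R' A' := ((algebraMap A A').comp σ.toRingHom).toAlgebra
  haveI : IsScalarTower R' A A' := IsScalarTower.of_algebraMap_eq fun _ => rfl
  haveI : IsScalarTower A R' A' := IsScalarTower.of_algebraMap_eq fun a => by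
    show _ = algebraMap A A' (σ (algebraMap A R' a))
    rw [σ.commutes]
    rfl
  haveI : (maximalIdeal A').LiesOver p' := ⟨by
    show p' = (maximalIdeal A').comap ((algebraMap A A').comp σ.toRingHom)
    rw [← Ideal.comap_comap, IsLocalRing.maximalIdeal_comap (algebraMap A A'), hσ]⟩
  rw [Ideal.map_map, show (algebraMap A A').comp σ.toRingHom = algebraMap R' A' from rfl, ← hI₀ A']
  haveI : Module.Flat R' A := Algebra.FormallyUnramified.flat_of_restrictScalars A R' A
  let S2 := A ⊗[R'] S'
  let T := A' ⊗[R'] S'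
  let NT := T ⊗[S'] N'
  haveI : Module.Flat S' S2 := Module.Flat.isBaseChange R' S' A S2
    (Algebra.IsPushout.symm (R := R') (S := A) (R' := S') (S' := S2) inferInstance).out
  letI : Algebra S S2 := ((algebraMap S' S2).comp (algebraMap S S')).toAlgebra
  haveI : IsScalarTower S S' S2 := IsScalarTower.of_algebraMap_eq fun _ => rfl
  haveI : Module.Flat S S2 := Module.Flat.trans S S' S2
  haveI : IsScalarTower A S S2 := IsScalarTower.of_algebraMap_eq fun a => by
    show algebraMap A A a ⊗ₜ[R'] (1 : S') = (1 : A) ⊗ₜ[R'] algebraMap S S' (algebraMap A S a)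
    rw [← IsScalarTower.algebraMap_apply A S S', IsScalarTower.algebraMap_apply A R' S' a,
      Algebra.algebraMap_eq_smul_one (A := S') (algebraMap A R' a), ← TensorProduct.smul_tmul,
      ← Algebra.algebraMap_eq_smul_one, ← IsScalarTower.algebraMap_apply A R' A]
  let φ : S2 →ₐ[R'] T := Algebra.TensorProduct.map (IsScalarTower.toAlgHom R' A A') (AlgHom.id R' S')
  letI : Algebra S2 T := φ.toRingHom.toAlgebra
  haveI : IsScalarTower S' S2 T := IsScalarTower.of_algebraMap_eq fun s => by
    show (1 : A') ⊗ₜ[R'] s = φ ((1 : A) ⊗ₜ[R'] s)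
    rw [Algebra.TensorProduct.map_tmul, map_one]
    rfl
  haveI : IsScalarTower A S2 T := IsScalarTower.of_algebraMap_eq fun a => by
    show algebraMap A A' a ⊗ₜ[R'] (1 : S') = φ (algebraMap A A a ⊗ₜ[R'] (1 : S'))
    rw [Algebra.TensorProduct.map_tmul, map_one]
    rfl
  haveI : Algebra.IsPushout R' A S' S2 := inferInstance
  haveI : Algebra.IsPushout R' A' S' T := inferInstance
  haveI : IsScalarTower A A' T := inferInstance
  haveI : Algebra.IsPushout A A' S2 T :=
    (Algebra.IsPushout.comp_iff (R := R') (S := A) (R' := S') (S' := S2)).1 inferInstance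
  haveI : Algebra.IsPushout A S2 A' T := Algebra.IsPushout.symm inferInstance
  letI : Algebra S T := ((algebraMap S' T).comp (algebraMap S S')).toAlgebra
  haveI : IsScalarTower S S' T := IsScalarTower.of_algebraMap_eq fun _ => rfl
  haveI : IsScalarTower S S2 T := IsScalarTower.of_algebraMap_eq fun s =>
    IsScalarTower.algebraMap_apply S' S2 T (algebraMap S S' s)
  haveI : IsScalarTower S T NT := inferInstance
  haveI : IsScalarTower S S' NT := IsScalarTower.of_algebraMap_smul fun s x => by
    rw [← algebraMap_smul T (algebraMap S S' s) x, ← IsScalarTower.algebraMap_apply S S' T, algebraMap_smul]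
  let jT : N →ₗ[S] NT := ((TensorProduct.mk S' T N' 1).restrictScalars S).comp (TensorProduct.mk S S' N 1)
  have hjT : IsBaseChange T jT := (TensorProduct.isBaseChange S N S').comp (TensorProduct.isBaseChange S' N' T)
  haveI : q'.LiesOver q := hqo
  obtain ⟨q2, hq2, hq2S, -⟩ := GrothLib.FlatDescent8.exists_prime_over (R := R') (S := S') (R' := A) (S' := S2)
    q' (maximalIdeal A) ((Ideal.LiesOver.over (p := p') (P := q')).symm.trans hσ.symm)
  refine (forall_flatAt_iff (A := A) (A' := A') (S2 := S2) (T := T) N jT hjT q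
    (fun J => J.comap (algebraMap S' S2) = q') (fun J hJ => ?_) ⟨q2, hq2, hq2S⟩).trans ?_
  · rw [IsScalarTower.algebraMap_eq S S' S2, ← Ideal.comap_comap, hJ]
    exact (Ideal.LiesOver.over (p := q) (P := q')).symm
  · simp only [Ideal.comap_comap, ← IsScalarTower.algebraMap_eq S' S2 T]
    exact Iff.rfl

end GrothLib.FlatteningHens1
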