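import Mathlib

/-!
# The ideal where a surjection from a projective module becomes injective
-/

set_option autoImplicit false
set_option linter.style.haveILetI false

universe u

open TensorProduct

namespace GrothLib.FlatteningHens1

/-- A surjection from a projective module becomes injective after base change exactly on a closed locus. -/
theorem exists_ideal_injective {R F M : Type u} [CommRing R] [AddCommGroup F] [Module R F] [Module.Projective R F]
    [AddCommGroup M] [Module R M] (φ : F →ₗ[R] M) (hφ : Function.Surjective φ) :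
    ∃ I : Ideal R, ∀ (R' : Type u) [CommRing R'] [Algebra R R'],
      Function.Injective (φ.baseChange R') ↔ I.map (algebraMap R R') = ⊥ := by
  classical
  obtain ⟨s, hs⟩ := (Module.projective_def'.1 (inferInstance : Module.Projective R F))
  refine ⟨Ideal.span {a | ∃ x ∈ LinearMap.ker φ, ∃ i : F, s x i = a}, fun R' _ _ => ?_⟩
  rw [Ideal.map_span, Ideal.span_eq_bot]
  have hex : Function.Exact ((LinearMap.ker φ).subtype.baseChange R') (φ.baseChange R') :=
    lTensor_exact R' φ.exact_subtype_ker_map hφ
  have hsi : Function.Injective (s.baseChange R') := by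
    refine Function.LeftInverse.injective (g := (Finsupp.linearCombination R (id : F → F)).baseChange R') fun z => ?_
    rw [← LinearMap.comp_apply, ← LinearMap.baseChange_comp, hs]
    simp
  let e := TensorProduct.finsuppScalarRight R R' R' F
  have hcoord : ∀ (x : F) (i : F), e (s.baseChange R' (1 ⊗ₜ x)) i = algebraMap R R' (s x i) := fun x i => by
    simp [e, TensorProduct.finsuppScalarRight_apply_tmul_apply, Algebra.smul_def]
  constructor
  · rintro h _ ⟨a, ⟨x, hx, i, rfl⟩, rfl⟩
    have h0 : (1 : R') ⊗ₜ[R] x = 0 := h (by rw [LinearMap.baseChange_tmul, hx, tmul_zero, map_zero])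
    rw [← hcoord, h0]
    simp
  · intro h
    refine (injective_iff_map_eq_zero _).2 fun z hz => ?_
    obtain ⟨w, rfl⟩ := (hex z).1 hz
    have key : ∀ x : LinearMap.ker φ, (1 : R') ⊗ₜ[R] (x : F) = 0 := fun x => by
      refine hsi ?_
      rw [map_zero]
      refine e.injective (Finsupp.ext fun i => ?_)
      rw [hcoord, map_zero, Finsupp.zero_apply]
      exact h _ ⟨_, ⟨x, x.2, i, rfl⟩, rfl⟩
    clear hz
    induction w using TensorProduct.induction_on with
    | zero => simp
    | add a b ha hb => rw [map_add, ha, hb, add_zero]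
    | tmul r x =>
      rw [LinearMap.baseChange_tmul, show r ⊗ₜ[R] (LinearMap.ker φ).subtype x = r • ((1 : R') ⊗ₜ[R] (x : F)) by
        rw [smul_tmul', smul_eq_mul, mul_one]; rfl, key, smul_zero]

/-- A chain of cokernels is covered by the product of the sources; the cover becomes injective after
base change exactly when all steps do. -/
theorem chain_cover {R : Type u} [CommRing R] (m : ℕ) : ∀ (M F : ℕ → Type u) [∀ k, AddCommGroup (M k)]
    [∀ k, Module R (M k)] [∀ k, AddCommGroup (F k)] [∀ k, Module R (F k)] (a : ∀ k, F k →ₗ[R] M k)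
    (_hnext : ∀ k < m, ∃ π : M k →ₗ[R] M (k + 1), Function.Surjective π ∧ Function.Exact (a k) π)
    (_hlast : Function.Surjective (a m)) (_hproj : ∀ k ≤ m, Module.Projective R (F k)),
    ∃ (G : Type u) (_ : AddCommGroup G) (_ : Module R G) (_ : Module.Projective R G) (φ : G →ₗ[R] M 0),
      Function.Surjective φ ∧ ∀ (R' : Type u) [CommRing R'] [Algebra R R'],
        Function.Injective (φ.baseChange R') ↔ ∀ k ≤ m, Function.Injective ((a k).baseChange R') := by
  induction m with
  | zero =>
    intro M F _ _ _ _ a _ hlast hproj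
    refine ⟨F 0, inferInstance, inferInstance, hproj 0 le_rfl, a 0, hlast, fun R' _ _ => ⟨fun h k hk => ?_, fun h => h 0 le_rfl⟩⟩
    obtain rfl : k = 0 := Nat.le_zero.1 hk
    exact h
  | succ m ih =>
    intro M F _ _ _ _ a hnext hlast hproj
    obtain ⟨G, _, _, _, φ, hφ, hiff⟩ := ih (fun k => M (k + 1)) (fun k => F (k + 1)) (fun k => a (k + 1))
      (fun k hk => hnext (k + 1) (Nat.succ_lt_succ hk)) hlast (fun k hk => hproj (k + 1) (Nat.succ_le_succ hk))
    obtain ⟨π, hπ, hex⟩ := hnext 0 (Nat.succ_pos m)
    obtain ⟨ψ, hψ⟩ := Module.projective_lifting_property π φ hπ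
    haveI := hproj 0 (Nat.zero_le _)
    refine ⟨F 0 × G, inferInstance, inferInstance, inferInstance, (a 0).coprod ψ, fun x => ?_, fun R' _ _ => ?_⟩
    · obtain ⟨g, hg⟩ := hφ (π x)
      obtain ⟨f, hf⟩ := (hex (x - ψ g)).1 (by rw [map_sub, ← LinearMap.comp_apply, hψ, hg, sub_self])
      exact ⟨(f, g), by simp [hf]⟩
    let e := TensorProduct.prodRight R R' R' (F 0) G
    have hcomp : ∀ z, ((a 0).coprod ψ).baseChange R' z =
        (a 0).baseChange R' (e z).1 + ψ.baseChange R' (e z).2 := fun z => by
      induction z using TensorProduct.induction_on with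
      | zero => simp
      | add x y hx hy =>
        simp only [map_add, Prod.fst_add, Prod.snd_add, hx, hy]
        abel
      | tmul r x => simp [e, tmul_add]
    have hφ' : ∀ g, π.baseChange R' (ψ.baseChange R' g) = φ.baseChange R' g := fun g => by
      rw [← LinearMap.comp_apply, ← LinearMap.baseChange_comp, hψ]
    have hπa : ∀ f, π.baseChange R' ((a 0).baseChange R' f) = 0 := fun f => by
      rw [← LinearMap.comp_apply, ← LinearMap.baseChange_comp, hex.linearMap_comp_eq_zero]
      simp
    have hex' : Function.Exact ((a 0).baseChange R') (π.baseChange R') := lTensor_exact R' hex hπ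
    constructor
    · intro h k hk
      have h0 : Function.Injective ((a 0).baseChange R') := (injective_iff_map_eq_zero _).2 fun f hf => by
        have := h (a₁ := e.symm (f, 0)) (a₂ := 0) (by simp [hcomp, hf])
        simpa using congrArg (fun z => (e z).1) this
      have hG : Function.Injective (φ.baseChange R') := (injective_iff_map_eq_zero _).2 fun g hg => by
        rw [← hφ'] at hg
        obtain ⟨f, hf⟩ := (hex' _).1 hg
        have := h (a₁ := e.symm (-f, g)) (a₂ := 0) (by simp [hcomp, hf])
        simpa using congrArg (fun z => (e z).2) this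
      obtain _ | k := k
      · exact h0
      · exact (hiff R').1 hG k (by omega)
    · intro h
      refine (injective_iff_map_eq_zero _).2 fun z hz => ?_
      rw [hcomp] at hz
      have hg : (e z).2 = 0 := by
        refine (hiff R').2 (fun k hk => h (k + 1) (Nat.succ_le_succ hk)) ?_
        rw [map_zero, ← hφ']
        have := congrArg (π.baseChange R') hz
        simpa [map_add, hπa] using this
      rw [hg, map_zero, add_zero] at hz
      have hf : (e z).1 = 0 := h 0 (Nat.zero_le _) (by rw [hz, map_zero])
      exact e.map_eq_zero_iff.1 (Prod.ext hf hg)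

/-- The closed locus where all steps of a chain of cokernels become injective. -/
theorem exists_ideal_chain {R : Type u} [CommRing R] (n : ℕ) (hn : 0 < n) (M F : ℕ → Type u) [∀ k, AddCommGroup (M k)]
    [∀ k, Module R (M k)] [∀ k, AddCommGroup (F k)] [∀ k, Module R (F k)] (a : ∀ k, F k →ₗ[R] M k)
    (hnext : ∀ k, k + 1 < n → ∃ π : M k →ₗ[R] M (k + 1), Function.Surjective π ∧ Function.Exact (a k) π)
    (hlast : Function.Surjective (a (n - 1))) (hproj : ∀ k < n, Module.Projective R (F k)) :
    ∃ I : Ideal R, ∀ (R' : Type u) [CommRing R'] [Algebra R R'],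
      (∀ k < n, Function.Injective ((a k).baseChange R')) ↔ I.map (algebraMap R R') = ⊥ := by
  obtain ⟨m, rfl⟩ : ∃ m, n = m + 1 := ⟨n - 1, by omega⟩
  obtain ⟨G, _, _, _, φ, hφ, hiff⟩ := chain_cover m M F a (fun k hk => hnext k (by omega)) hlast
    fun k hk => hproj k (by omega)
  obtain ⟨I, hI⟩ := exists_ideal_injective φ hφ
  refine ⟨I, fun R' _ _ => ?_⟩
  rw [← hI R', hiff R']
  exact ⟨fun h k hk => h k (by omega), fun h k hk => h k (by omega)⟩

end GrothLib.FlatteningHens1
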