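import Groth.Agent.Lib.RGProj13.LocalFree
import Groth.Agent.Lib.FlatDescent8.Basic
import Groth.Agent.S1204
import Groth.Agent.Lib.FlatteningHens1.Chain

/-!
# The flattening ideal of a complete dévissage
-/

set_option autoImplicit false
set_option linter.style.haveILetI false
set_option linter.unusedSectionVars false
universe u

open TensorProduct FlatCA IsLocalRing

namespace GrothLib.FlatteningHens1

attribute [local instance] Algebra.TensorProduct.rightAlgebra

/-- A flat module is flat at every prime. -/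
theorem flatAt_of_flat' {R B : Type u} [CommRing R] [CommRing B] [Algebra R B] (M : Type u) [AddCommGroup M]
    [Module B M] [Module R M] [IsScalarTower R B M] [Module.Flat R M] (Q : Ideal B) [Q.IsPrime] :
    FlatAt R Q M := by
  let Bq := Localization.AtPrime Q
  have hM : IsBaseChange Bq (LocalizedModule.mkLinearMap Q.primeCompl M) :=
    (isLocalizedModule_iff_isBaseChange Q.primeCompl Bq _).1 inferInstance
  haveI : Module.Flat B Bq := IsLocalization.flat Bq Q.primeCompl
  haveI : Module.Flat R (Bq ⊗[B] M) := GrothLib.FlatDesc.flat_tensor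
  exact Module.Flat.of_linearEquiv (hM.equiv.restrictScalars R).symm

set_option maxHeartbeats 1600000 in
/-- If all steps stay injective after base change, the base change is flat. -/
theorem flat_of_injective {R S : Type u} [CommRing R] [CommRing S] [Algebra R S] {N : Type u} [AddCommGroup N]
    [Module S N] [Module R N] [IsScalarTower R S N] {rr : Ideal R} [rr.IsPrime] (D : CompleteDevissage R S N rr)
    (R' : Type u) [CommRing R'] [Algebra R R']
    (hinj : ∀ k < D.n, Function.Injective (((D.α k).restrictScalars R).baseChange R')) :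
    Module.Flat R' ((R' ⊗[R] S) ⊗[S] N) := by
  let F : ℕ → Type u := fun k => R' ⊗[R] (Fin (D.r k) → D.B k)
  obtain ⟨hP, -⟩ := GrothLib.RGProj13.chain_split' (R := R') D.n D.pos (fun k => R' ⊗[R] D.M k) F
    (fun k => ((D.α k).restrictScalars R).baseChange R') hinj
    (fun k hk => by
      obtain ⟨π, h1, h2⟩ := GrothLib.RGProj13.exists_proj' D hk
      exact ⟨π.baseChange R', LinearMap.lTensor_surjective R' h1, lTensor_exact R' h2 h1⟩)
    (LinearMap.lTensor_surjective R' (g := (D.α (D.n - 1)).restrictScalars R) D.cokerLast)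
    (fun k hk => by
      haveI := GrothLib.RGProj13.projective_B D hk
      haveI := GrothLib.RGProj13.projective_pi_fin (R := R) (D.B k) (D.r k)
      exact inferInstance)
  haveI := hP
  haveI : Module.Projective R' ((R' ⊗[R] S) ⊗[S] N) := Module.Projective.of_equiv
    (Algebra.IsPushout.cancelBaseChange R R' S (R' ⊗[R] S) N ≪≫ₗ
      AlgebraTensorModule.congr (LinearEquiv.refl R' R') (D.isoN.restrictScalars R)).symm
  exact Module.Flat.of_projective

set_option maxHeartbeats 3200000 in
/-- If a base change of the module is flat at the points over the point of the dévissage, all steps stay injective. -/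
theorem injective_of_flat {R S : Type u} [CommRing R] [CommRing S] [Algebra R S] [Algebra.FiniteType R S] {N : Type u}
    [AddCommGroup N] [Module S N] [Module R N] [IsScalarTower R S N] [Module.Finite S N] {rr : Ideal R} [rr.IsPrime]
    {q : Ideal S} [q.IsPrime] (D : CompleteDevissage R S N rr) (𝒜 : CompleteDevissageAt R S N rr q D)
    (R' : Type u) [CommRing R'] [IsLocalRing R'] [Algebra R R'] [(maximalIdeal R').LiesOver rr]
    (h : ∀ (Q : Ideal (R' ⊗[R] S)) [Q.IsPrime], Q.comap (algebraMap S (R' ⊗[R] S)) = q →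
      Q.comap (algebraMap R' (R' ⊗[R] S)) = maximalIdeal R' → FlatAt R' Q ((R' ⊗[R] S) ⊗[S] N))
    (k : ℕ) (hk : k < D.n) : Function.Injective (((D.α k).restrictScalars R).baseChange R') := by
  let C := R' ⊗[R] S
  let NC := C ⊗[S] N
  haveI : Algebra.FiniteType R' C := inferInstance
  haveI : Module.Finite C NC := inferInstance
  obtain ⟨D', aA, rA, t1, t2, aB, rB, t3, t4, bA, t5, t6, bA', t7, sA, t8, mA, t9, gM, hn, hr, hS0, -, hnext, hall⟩ :=
    Groth.Agent.S12243.result R S N rr D R' (maximalIdeal R') C NC (TensorProduct.mk S C N 1)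
      (TensorProduct.isBaseChange S N C)
  let P : Fin D.n → Prop := fun j => ∀ (Q : Ideal (D'.A j)) [Q.IsPrime],
    (letI := aA j; Q.comap (algebraMap (D.A j) (D'.A j)) = 𝒜.qA j) →
    Q.comap (algebraMap R' (D'.A j)) = maximalIdeal R' → FlatAt R' Q (D'.M j)
  have hstep : ∀ j : Fin D.n, P j → Function.Injective (D'.α j) ∧ ∀ h1 : (j : ℕ) + 1 < D.n, P ⟨j + 1, h1⟩ := by
    intro j hP
    have hj' : (j : ℕ) < D'.n := by rw [hn]; exact j.2
    letI := aA j
    letI := rA j
    haveI := t1 j
    haveI := t2 j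
    letI := aB j
    letI := rB j
    haveI := t3 j
    haveI := t4 j
    letI := bA j
    haveI := t5 j
    haveI := t6 j
    letI := bA' j
    haveI := t7 j
    obtain ⟨hA, hB, -, -⟩ := hall j
    haveI := 𝒜.hqB j
    haveI := 𝒜.overB j
    haveI := D'.smooth j hj'
    haveI := D'.finiteBA j hj'
    haveI := GrothLib.RGProj13.finite_M D' hj'
    haveI := D'.hp j
    haveI : Algebra.IsPushout R (D.B j) R' (D'.B j) := Algebra.IsPushout.symm hB
    have hiff : ∀ (qB' : Ideal (D'.B j)) [qB'.IsPrime], qB'.comap (algebraMap (D.B j) (D'.B j)) = 𝒜.qB j →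
        qB'.comap (algebraMap R' (D'.B j)) = maximalIdeal R' →
        Function.Injective (D'.α j) ∧ FlatAt R' qB' (D'.M j ⧸ LinearMap.range (D'.α j)) := by
      intro qB' _ hq hm
      haveI : qB'.LiesOver (maximalIdeal R') := ⟨hm.symm⟩
      have hflat : FlatAt R' qB' (D'.M j) := by
        refine GrothLib.RGProj13.flatAt_B D' qB' fun Q _ hQ => ?_
        obtain ⟨Q₁, hle, hQ₁, hc⟩ := Ideal.exists_ideal_over_prime_of_isIntegral qB' Q hQ
        haveI := hQ₁
        change Q₁.comap (algebraMap (D'.B j) (D'.A j)) = qB' at hc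
        have hQA : Q₁.comap (algebraMap (D.A j) (D'.A j)) = 𝒜.qA j := by
          refine 𝒜.uniq j j.2 _ ⟨?_⟩
          rw [Ideal.under_def, Ideal.comap_comap, ← IsScalarTower.algebraMap_eq (D.B j) (D.A j) (D'.A j),
            IsScalarTower.algebraMap_eq (D.B j) (D'.B j) (D'.A j), ← Ideal.comap_comap, hc, hq]
        have hQm : Q₁.comap (algebraMap R' (D'.A j)) = maximalIdeal R' := by
          rw [IsScalarTower.algebraMap_eq R' (D'.B j) (D'.A j), ← Ideal.comap_comap, hc, hm]
        exact (GrothLib.RG6.Dev.flatAt_of_forall (A := R') (B := D'.A j) (C := D'.A j) (D'.M j) Q₁).1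
          (hP Q₁ hQA hQm) Q (by rw [Algebra.algebraMap_self, Ideal.comap_id]; exact hle)
      exact (((Groth.Agent.S1204.result (GrothLib.RGProj13.hgi_B D' hj') qB' (D'.M j)).2 (D'.r j) (D'.α j)
        (D'.fibreIso j hj')).out 0 2).1 hflat
    obtain ⟨qB', hq', h1, h2⟩ := GrothLib.FlatDescent8.exists_prime_over (R := R) (S := D.B j) (R' := R') (S' := D'.B j)
      (𝒜.qB j) (maximalIdeal R')
      (((Ideal.LiesOver.over (p := rr) (P := 𝒜.qB j)).symm).trans (Ideal.LiesOver.over (p := rr) (P := maximalIdeal R')))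
    haveI := hq'
    refine ⟨(hiff qB' h1 h2).1, fun hj1 Q _ hQA hQm => ?_⟩
    letI := aA ⟨j + 1, hj1⟩
    haveI := hnext j hj1
    let qB'' := Q.comap (algebraMap (D'.B j) (D'.A (j + 1)))
    haveI : qB''.IsPrime := Ideal.IsPrime.comap _
    have h1' : qB''.comap (algebraMap (D.B j) (D'.B j)) = 𝒜.qB j := by
      rw [Ideal.comap_comap, ← IsScalarTower.algebraMap_eq (D.B j) (D'.B j) (D'.A (j + 1)),
        IsScalarTower.algebraMap_eq (D.B j) (D.A (j + 1)) (D'.A (j + 1)), ← Ideal.comap_comap]
      exact (congrArg (Ideal.comap _) hQA).trans (𝒜.qStep j hj1)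
    have h2' : qB''.comap (algebraMap R' (D'.B j)) = maximalIdeal R' := by
      rw [Ideal.comap_comap, ← IsScalarTower.algebraMap_eq R' (D'.B j) (D'.A (j + 1))]
      exact hQm
    exact GrothLib.RGProj13.flatAt_succ D' (show (j : ℕ) + 1 < D'.n by rw [hn]; exact hj1) qB'' (hiff qB'' h1' h2').2 Q le_rfl
  have hP : ∀ i, ∀ hi : i < D.n, P ⟨i, hi⟩ := by
    intro i
    induction i with
    | zero =>
      intro hi Q _ hQA hQm
      letI := aA ⟨0, D.pos⟩
      letI := sA
      haveI := t8
      haveI := hS0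
      let Q₀ := Q.comap (algebraMap C (D'.A 0))
      haveI : Q₀.IsPrime := Ideal.IsPrime.comap _
      have h1 : Q₀.comap (algebraMap S C) = q := by
        rw [Ideal.comap_comap, ← IsScalarTower.algebraMap_eq S C (D'.A 0),
          IsScalarTower.algebraMap_eq S (D.A 0) (D'.A 0), ← Ideal.comap_comap]
        exact (congrArg (Ideal.comap _) hQA).trans 𝒜.q0
      have h2 : Q₀.comap (algebraMap R' C) = maximalIdeal R' := by
        rw [Ideal.comap_comap, ← IsScalarTower.algebraMap_eq R' C (D'.A 0)]
        exact hQm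
      exact GrothLib.RGProj13.flatAt_zero D' (h Q₀ h1 h2) Q le_rfl
    | succ i ih => exact fun hi => (hstep ⟨i, by omega⟩ (ih (by omega))).2 hi
  obtain ⟨j, rfl⟩ : ∃ j : Fin D.n, (j : ℕ) = k := ⟨⟨k, hk⟩, rfl⟩
  have hinj := (hstep j (hP j j.2)).1
  letI := aA j
  letI := rA j
  haveI := t1 j
  haveI := t2 j
  letI := aB j
  letI := rB j
  haveI := t3 j
  haveI := t4 j
  letI := bA j
  haveI := t5 j
  haveI := t6 j
  letI := mA j
  haveI := t9 j
  obtain ⟨hA, hB, hg, hrange⟩ := hall j
  haveI := hA
  haveI := hB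
  letI : Module (D.B j) (D'.M j) := Module.compHom _ (algebraMap (D.B j) (D'.B j))
  haveI : IsScalarTower (D.B j) (D'.B j) (D'.M j) := IsScalarTower.of_algebraMap_smul fun _ _ => rfl
  haveI : IsScalarTower (D.B j) (D.A j) (D'.M j) := IsScalarTower.of_algebraMap_smul fun b x => by
    show algebraMap (D.B j) (D.A j) b • x = algebraMap (D.B j) (D'.B j) b • x
    rw [← algebraMap_smul (D'.A j) (algebraMap (D.B j) (D'.B j) b) x, ← IsScalarTower.algebraMap_apply (D.B j) (D'.B j) (D'.A j),
      IsScalarTower.algebraMap_apply (D.B j) (D.A j) (D'.A j), algebraMap_smul (D'.A j)]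
  have hgB : IsBaseChange (D'.B j) ((gM j).restrictScalars (D.B j)) :=
    GrothLib.DevBC13.isBaseChange_over (R := R) (R' := R') (gM j) hg
  have hbc : Function.Injective (GrothLib.DevBC13.alphaBC (B' := D'.B j) ((gM j).restrictScalars (D.B j)) (D.α j)) :=
    GrothLib.RGProj13.injective_of_range_eq _ (D'.α j) (congrFun hr j).symm hinj
      (by rw [GrothLib.DevBC13.range_alphaBC]; exact hrange.symm)
  rw [GrothLib.DevBC13.alphaBC_eq (D.α j) hgB] at hbc
  simp only [LinearMap.coe_comp, LinearEquiv.coe_coe] at hbc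
  let c := Algebra.IsPushout.cancelBaseChange R R' (D.B j) (D'.B j)
  have hc : ∀ w, (D.α j).baseChange (D'.B j) ((c (Fin (D.r j) → D.B j)).symm w) =
      (c (D.M j)).symm (((D.α j).restrictScalars R).baseChange R' w) := fun w => by
    induction w using TensorProduct.induction_on with
    | zero => simp
    | add u v hu hv => simp only [map_add, hu, hv]
    | tmul l x => simp [c, Algebra.IsPushout.cancelBaseChange_symm_tmul]
  intro x y hxy
  have h1 : (D.α j).baseChange (D'.B j) ((c (Fin (D.r j) → D.B j)).symm x) =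
      (D.α j).baseChange (D'.B j) ((c (Fin (D.r j) → D.B j)).symm y) := by rw [hc, hc, hxy]
  let p := TensorProduct.piScalarRight (D.B j) (D'.B j) (D'.B j) (Fin (D.r j))
  refine (c (Fin (D.r j) → D.B j)).symm.injective (p.injective (hbc ?_))
  simp only [Function.comp_apply, p, LinearEquiv.symm_apply_apply]
  rw [h1]

/-- The flattening ideal of a complete dévissage at a point. -/
theorem exists_ideal_of_devissage {R S : Type u} [CommRing R] [CommRing S] [Algebra R S] [Algebra.FiniteType R S]
    {N : Type u} [AddCommGroup N] [Module S N] [Module R N] [IsScalarTower R S N] [Module.Finite S N] {rr : Ideal R}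
    [rr.IsPrime] {q : Ideal S} [q.IsPrime] (D : CompleteDevissage R S N rr) (𝒜 : CompleteDevissageAt R S N rr q D) :
    ∃ I : Ideal R, ∀ (R' : Type u) [CommRing R'] [IsLocalRing R'] [Algebra R R'] [(maximalIdeal R').LiesOver rr],
      ((∀ (Q : Ideal (R' ⊗[R] S)) [Q.IsPrime], Q.comap (algebraMap S (R' ⊗[R] S)) = q →
        Q.comap (algebraMap R' (R' ⊗[R] S)) = maximalIdeal R' → FlatAt R' Q ((R' ⊗[R] S) ⊗[S] N)) ↔
        I.map (algebraMap R R') = ⊥) := by
  obtain ⟨I, hI⟩ := exists_ideal_chain (R := R) D.n D.pos D.M (fun k => Fin (D.r k) → D.B k)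
    (fun k => (D.α k).restrictScalars R) (fun k hk => GrothLib.RGProj13.exists_proj' D hk) D.cokerLast
    fun k hk => haveI := GrothLib.RGProj13.projective_B D hk
      GrothLib.RGProj13.projective_pi_fin (D.B k) (D.r k)
  refine ⟨I, fun R' _ _ _ _ => ⟨fun h => (hI R').1 fun k hk => injective_of_flat D 𝒜 R' h k hk, fun h Q _ _ _ => ?_⟩⟩
  haveI := flat_of_injective D R' ((hI R').2 h)
  exact flatAt_of_flat' _ Q

end GrothLib.FlatteningHens1
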